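import Mathlib
import Groth.Agent.Lib.Helper5.DegC.Birat
import Groth.Agent.Lib.Helper5.Curve3.FinBir
import Groth.Agent.Lib.Helper5.Snap.DimComp
import Groth.Agent.Lib.Helper5.IntN.PosMain
import Groth.Agent.Lib.Helper1.EquiDim

set_option autoImplicit false
universe u
open CategoryTheory CategoryTheory.Limits AlgebraicGeometry TopologicalSpace Opposite

namespace Groth.Agent.H5.Curve7

open Groth.Agent.LD Groth.Agent.LD.QC Groth.Agent.H5.Snap Groth.Agent.H5.IntN

/-- **a scheme of finite type over a field has the dimension of any dense open subset.** -/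
theorem dim_le_of_dense_open {k : Type u} [Field k] {Z : Scheme.{u}}
    (g : Z ⟶ Spec (CommRingCat.of k)) [LocallyOfFiniteType g] [NoetherianSpace Z]
    (V : Z.Opens) (hV : Dense (V : Set Z)) (d : WithBot ℕ∞)
    (hd : topologicalKrullDim (V : Set Z) ≤ d) : topologicalKrullDim Z ≤ d := by
  apply dim_le_of_forall_irreducibleComponents d
  intro C hC
  have hCcl : IsClosed C := isClosed_of_mem_irreducibleComponents C hC
  have hCirr : IsIrreducible C := hC.1
  set ξ : Z := hCirr.genericPoint with hξ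
  have hξC : closure ({ξ} : Set Z) = C := hCirr.isGenericPoint_genericPoint hCcl
  haveI := irreducibleSpace_vI ξ
  have h1 := dim_vI ξ
  rw [hξC] at h1
  obtain ⟨y, hyC, hyV⟩ := Groth.Agent.H5.Curve3.dense_inter_component_nonempty (V : Set Z)
    V.isOpen hV C hC
  have hrange : Set.range (vI ξ).subschemeι = C := by
    rw [Scheme.IdealSheafData.range_subschemeι, coe_support_vI, hξC]
  obtain ⟨w, hw⟩ : y ∈ Set.range (vI ξ).subschemeι := hrange ▸ hyC
  have hne : (((vI ξ).subschemeι ⁻¹ᵁ V : (vI ξ).subscheme.Opens) : Set (vI ξ).subscheme).Nonempty :=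
    ⟨w, by change (vI ξ).subschemeι w ∈ V; rw [hw]; exact hyV⟩
  have h2 := Groth.Agent.H1.EquiDim.dim_opens_eq_dim ((vI ξ).subschemeι ≫ g)
    ((vI ξ).subschemeι ⁻¹ᵁ V) hne
  -- the restriction of the closed immersion to the preimage of `V` is inducing
  let φ : ↥(((vI ξ).subschemeι ⁻¹ᵁ V : (vI ξ).subscheme.Opens) : Set (vI ξ).subscheme) →
      ↥(V : Set Z) := fun w => ⟨(vI ξ).subschemeι w.1, w.2⟩
  have hφ : Topology.IsInducing φ := by
    have hcomp : Topology.IsInducing ((Subtype.val : ↥(V : Set Z) → Z) ∘ φ) := by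
      have : (Subtype.val : ↥(V : Set Z) → Z) ∘ φ =
          (vI ξ).subschemeι ∘ (Subtype.val :
            ↥(((vI ξ).subschemeι ⁻¹ᵁ V : (vI ξ).subscheme.Opens) : Set (vI ξ).subscheme) → _) := rfl
      rw [this]
      exact (vI ξ).subschemeι.isClosedEmbedding.isEmbedding.isInducing.comp
        Topology.IsInducing.subtypeVal
    exact (Topology.IsInducing.of_comp_iff Topology.IsInducing.subtypeVal).mp hcomp
  have h3 := hφ.topologicalKrullDim_le
  rw [← h1, ← h2]
  exact h3.trans hd

variable (k : Type u) [Field k] (X X' : Scheme.{u}) [X.Over (Spec (CommRingCat.of k))]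
  [X'.Over (Spec (CommRingCat.of k))] [IsProper (X ↘ (Spec (CommRingCat.of k)))]

/-- the source of a proper birational morphism onto a curve has dimension `≤ 1`. -/
theorem dim_le_one_of_birational (hdim : topologicalKrullDim X ≤ 1) (f : X' ⟶ X) [IsProper f]
    (hf : f ≫ (X ↘ (Spec (CommRingCat.of k))) = X' ↘ (Spec (CommRingCat.of k)))
    (U : X.Opens) (hU' : Dense ((f ⁻¹ᵁ U : X'.Opens) : Set X')) (hfU : IsIso (f ∣_ U)) :
    topologicalKrullDim X' ≤ 1 := by
  haveI : IsProper (X' ↘ (Spec (CommRingCat.of k))) := by rw [← hf]; infer_instance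
  haveI : IsNoetherian X' := Curve2.isNoetherian_of_proper k X'
  apply dim_le_of_dense_open (X' ↘ (Spec (CommRingCat.of k))) (f ⁻¹ᵁ U) hU' 1
  have hhomeo : IsHomeomorph (f ∣_ U) := (f ∣_ U).homeomorph.isHomeomorph
  have h1 : topologicalKrullDim ((f ⁻¹ᵁ U : X'.Opens) : Set X') =
      topologicalKrullDim ((U : X.Opens) : Set X) :=
    IsHomeomorph.topologicalKrullDim_eq _ hhomeo
  rw [h1]
  exact (topologicalKrullDim_subspace_le X (U : Set X)).trans hdim

/-- **S1602**: a proper birational morphism onto a proper scheme of dimension `≤ 1` does not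
increase `h¹(O)`. -/
theorem genus_le_of_proper_birational (hdim : topologicalKrullDim X ≤ 1) (f : X' ⟶ X) [IsProper f]
    (hf : f ≫ (X ↘ (Spec (CommRingCat.of k))) = X' ↘ (Spec (CommRingCat.of k)))
    (U : X.Opens) (hU : Dense (U : Set X)) (hU' : Dense ((f ⁻¹ᵁ U : X'.Opens) : Set X'))
    (hfU : IsIso (f ∣_ U)) :
    Curv2.genus k X' ≤ Curv2.genus k X := by
  haveI : IsProper (X' ↘ (Spec (CommRingCat.of k))) := by rw [← hf]; infer_instance
  have hdim' := dim_le_one_of_birational k X X' hdim f hf U hU' hfU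
  haveI := hfU
  haveI : IsFinite f := Groth.Agent.H5.DegC.isFinite_of_birational k hdim' f hf U hU'
  exact Groth.Agent.H5.Curve3.genus_le_of_finite_closedImmersion_dense k X X' hdim f hf U hU
    inferInstance

end Groth.Agent.H5.Curve7
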