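import Mathlib
import Groth.Agent.Lib.Helper5.Curve7.Bir1

set_option autoImplicit false
universe u
open CategoryTheory CategoryTheory.Limits AlgebraicGeometry TopologicalSpace Opposite

namespace Groth.Agent.H5.Curve7

open Groth.Agent.LD Groth.Agent.LD.QC Groth.Agent.H5.Snap Groth.Agent.H5.IntN
open Groth.Agent.H5.DegC

section gen

variable {X X' : Scheme.{u}} (f : X' ⟶ X)

/-- on a reduced scheme, `O_X ⟶ f_* O_{X'}` is a monomorphism as soon as `f` is an isomorphism over
a dense open. -/
theorem mono_toPushUnit_of_dense [IsReduced X] (U : X.Opens) (hU : Dense (U : Set X))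
    [IsIso (f ∣_ U)] : Mono (toPushUnit f) := by
  apply Preadditive.mono_of_kernel_zero
  apply Scheme.Modules.hom_ext
  intro V
  have key : ∀ t : Γ(kernel (toPushUnit f), V), (kernel.ι (toPushUnit f)).app V t = 0 := by
    intro t
    set s : Γ(X, V) := (kernel.ι (toPushUnit f)).app V t with hs
    have hbo : X.basicOpen s = ⊥ := by
      by_contra hne
      have hne' : ((X.basicOpen s : X.Opens) : Set X).Nonempty := by
        rw [Set.nonempty_iff_ne_empty]
        intro h0
        apply hne
        ext z
        simp only [Opens.coe_bot, Set.mem_empty_iff_false, iff_false]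
        intro hz
        have : z ∈ ((X.basicOpen s : X.Opens) : Set X) := hz
        rw [h0] at this
        exact this
      obtain ⟨x, hxb, hxU⟩ := hU.inter_open_nonempty _ (X.basicOpen s).isOpen hne'
      have hxV : x ∈ V := X.basicOpen_le s hxb
      have hsub := subsingleton_stalk_kernel_toPushUnit f U x hxU
      have h0 : (kernel (toPushUnit f)).presheaf.germ V x hxV t = 0 := Subsingleton.elim _ _
      obtain ⟨W, hWV, hxW, hres⟩ := exists_res_eq_zero_of_germ_eq_zero (kernel (toPushUnit f)) x hxV t h0
      have h1 : X.presheaf.map (homOfLE hWV).op s = 0 := by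
        have := app_res (kernel.ι (toPushUnit f)) hWV t
        rw [hres, map_zero] at this
        exact this.symm
      have hunit : IsUnit (X.presheaf.germ V x hxV s) := (X.mem_basicOpen s x hxV).mp hxb
      have h2 : X.presheaf.germ V x hxV s = 0 := by
        rw [← TopCat.Presheaf.germ_res_apply X.presheaf (homOfLE hWV) x hxW s]
        have h1' : (X.presheaf.map (homOfLE hWV).op).hom s = 0 := h1
        rw [h1', map_zero]
      rw [h2] at hunit
      exact not_isUnit_zero hunit
    exact (basicOpen_eq_bot_iff s).mp hbo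
  ext t
  exact key t

end gen

variable (k : Type u) [Field k] (X X' : Scheme.{u}) [X.Over (Spec (CommRingCat.of k))]
  [X'.Over (Spec (CommRingCat.of k))] [IsProper (X ↘ (Spec (CommRingCat.of k)))]

/-- **S1603**: a proper birational morphism onto a reduced proper scheme of dimension `≤ 1` which
is surjective on global functions and preserves `h¹(O)` is an isomorphism. -/
theorem isIso_of_proper_birational_genus_eq [IsReduced X] (hdim : topologicalKrullDim X ≤ 1)
    (f : X' ⟶ X) [IsProper f]
    (hf : f ≫ (X ↘ (Spec (CommRingCat.of k))) = X' ↘ (Spec (CommRingCat.of k)))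
    (U : X.Opens) (hU : Dense (U : Set X)) (hU' : Dense ((f ⁻¹ᵁ U : X'.Opens) : Set X'))
    (hfU : IsIso (f ∣_ U))
    (h0 : Function.Surjective (f.app ⊤).hom) (h1 : Curv2.genus k X' = Curv2.genus k X) :
    IsIso f := by
  haveI : IsProper (X' ↘ (Spec (CommRingCat.of k))) := by rw [← hf]; infer_instance
  have hdim' := dim_le_one_of_birational k X X' hdim f hf U hU' hfU
  haveI := hfU
  haveI : IsFinite f := isFinite_of_birational k hdim' f hf U hU'
  haveI : f.IsOver (Spec (CommRingCat.of k)) := ⟨hf⟩
  haveI := Curve.isLocallyNoetherian k X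
  haveI := Curve.compactSpace k X
  haveI : IsNoetherian X := {}
  have hA : Coh.IsCoh (unitMod X) := PF.isCoh_unitMod X
  haveI : (unitMod X).IsQuasicoherent := hA.1
  haveI : (unitMod X').IsQuasicoherent := (PF.isCoh_unitMod X').1
  have hB : Coh.IsCoh ((Scheme.Modules.pushforward f).obj (unitMod X')) :=
    ⟨qc_pushforward f _, isFiniteType_pushforward_of_isFinite f _ (PF.isCoh_unitMod X').2⟩
  haveI : ((Scheme.Modules.pushforward f).obj (unitMod X')).IsQuasicoherent := hB.1
  set φ := toPushUnit f with hφ
  haveI : Mono φ := mono_toPushUnit_of_dense f U hU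
  have hQc : Coh.IsCoh (cokernel φ) := isCoh_cokernel φ hA hB
  have hpt : ∀ x : X, ¬ Subsingleton ((cokernel φ).presheaf.stalk x) → IsClosed ({x} : Set X) := by
    intro x hx
    apply Groth.Agent.H5.Curve3.isClosed_singleton_of_notMem_dense hdim (U : Set X) U.isOpen hU x
    intro hxU
    exact hx (subsingleton_stalk_cokernel_toPushUnit f U x hxU)
  have hS : (ShortComplex.mk φ (cokernel.π φ) (cokernel.condition φ)).ShortExact :=
    { exact := ShortComplex.exact_cokernel φ
      mono_f := inferInstanceAs (Mono φ)
      epi_g := inferInstanceAs (Epi (cokernel.π φ)) }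
  have heu := Curve.euler_add k X _ hS hA hB hQc
  have heu' : Curv2.euler k X ((Scheme.Modules.pushforward f).obj (unitMod X')) =
      Curv2.euler k X (unitMod X) + Curv2.euler k X (cokernel φ) := heu
  have e1 := Curve.euler_eq_sub k X hdim (unitMod X)
  have e2 := Curve.euler_eq_sub k X hdim ((Scheme.Modules.pushforward f).obj (unitMod X'))
  -- `h⁰` agree
  have hbij : Function.Bijective (CL.HHmap k φ 0) := by
    refine ⟨Groth.Agent.H5.Curve2.injective_HHmap_zero k φ, ?_⟩
    intro y
    obtain ⟨s, hs⟩ := h0 (CL.HH0Equiv _ y)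
    refine ⟨(CL.HH0Equiv (unitMod X)).symm s, ?_⟩
    apply (CL.HH0Equiv _).injective
    have h2 := CL.HH0Equiv_map φ ((CL.HH0Equiv (unitMod X)).symm s)
    rw [AddEquiv.apply_symm_apply] at h2
    exact h2.trans hs
  have hh0 : Module.finrank k (Coh.HH X (unitMod X) 0) =
      Module.finrank k (Coh.HH X ((Scheme.Modules.pushforward f).obj (unitMod X')) 0) :=
    (LinearEquiv.ofBijective (CL.HHmap k φ 0) hbij).finrank_eq
  -- `h¹` agree
  obtain ⟨e⟩ := Groth.Agent.H5.Curve3.nonempty_HH_push_linearEquiv k f (unitMod X') 1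
  have hh1 : Module.finrank k (Coh.HH X ((Scheme.Modules.pushforward f).obj (unitMod X')) 1) =
      Module.finrank k (Coh.HH X (unitMod X) 1) := by
    rw [e.finrank_eq]
    exact h1
  have hχQ : Curv2.euler k X (cokernel φ) = 0 := by
    rw [e1, e2, hh0, hh1] at heu'
    linarith
  have hQz : IsZero (cokernel φ) := Curve.isZero_of_euler_eq_zero k X _ hQc hpt hχQ
  haveI : Epi φ := Preadditive.epi_of_isZero_cokernel φ hQz
  haveI : IsIso φ := isIso_of_mono_of_epi φ
  -- conclude
  apply IsZariskiLocalAtTarget.of_forall_exists_morphismRestrict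
    (P := MorphismProperty.isomorphisms Scheme)
  intro x
  obtain ⟨_, ⟨V, hV, rfl⟩, hxV, -⟩ :=
    X.isBasis_affineOpens.exists_subset_of_mem_open (Set.mem_univ x) isOpen_univ
  refine ⟨V, hxV, ?_⟩
  change IsIso (f ∣_ V)
  rw [isIso_morphismRestrict_iff_isIso_app f hV]
  rw [ConcreteCategory.isIso_iff_bijective]
  exact app_bijective_of_isIso φ V

end Groth.Agent.H5.Curve7
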