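import Mathlib
import Groth.Agent.Lib.Helper5.Curve3.FinBir
import Groth.Agent.Lib.Helper5.IntN.Num8

set_option autoImplicit false
universe u
open CategoryTheory CategoryTheory.Limits AlgebraicGeometry TopologicalSpace Opposite

namespace Groth.Agent.H5.Curve7

open Groth.Agent.LD Groth.Agent.LD.QC Groth.Agent.H5.Glue Groth.Agent.H4.NormInt

section gen

variable (X : Scheme.{u}) [IsIntegral X]
  [QuasiCompact (X.fromSpecStalk (genericPoint X))] [QuasiSeparated (X.fromSpecStalk (genericPoint X))]

local notation "ν" => Curv2.normalizationι X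

/-- `O_X → ν_* O_{X^ν}` is locally surjective at the generic point. -/
theorem locSurjAt_unitToPush_normalization :
    LocSurjAt (ClSub.unitToPush (Curv2.normalizationι X)) (genericPoint X) := by
  intro V z hηV
  obtain ⟨_, ⟨U, hU, rfl⟩, hηU, hUV⟩ :=
    X.isBasis_affineOpens.exists_subset_of_mem_open hηV V.isOpen
  have hne : (U : Set X).Nonempty := ⟨_, hηU⟩
  haveI : Nonempty U := ⟨⟨_, hηU⟩⟩
  have hUV' : U ≤ V := hUV
  have hpre : ν ⁻¹ᵁ U ≤ ν ⁻¹ᵁ V := fun y hy => hUV' hy
  obtain ⟨z', hz'⟩ : ∃ z' : Γ(Curv2.normalization X, ν ⁻¹ᵁ V), z' = z := ⟨z, rfl⟩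
  obtain ⟨b, hb⟩ : ∃ b : Γ(Curv2.normalization X, ν ⁻¹ᵁ U),
      b = ((Curv2.normalization X).presheaf.map (homOfLE hpre).op).hom z' := ⟨_, rfl⟩
  obtain ⟨c, d, hd, hcd⟩ := (isNormOf_app X U hU hne).exists_mul_eq b
  have hWU : X.basicOpen d ≤ U := X.basicOpen_le d
  have hWne : ((X.basicOpen d : X.Opens) : Set X).Nonempty := by
    by_contra hcon
    apply hd
    apply (basicOpen_eq_bot_iff d).mp
    ext y
    simp only [Opens.coe_bot, Set.mem_empty_iff_false, iff_false]
    intro hy
    exact hcon ⟨y, hy⟩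
  have hηW : genericPoint X ∈ X.basicOpen d := genericPoint_mem X (X.basicOpen d) hWne
  have hu : IsUnit ((X.presheaf.map (homOfLE hWU).op).hom d) :=
    X.toRingedSpace.isUnit_res_basicOpen d
  obtain ⟨w, hw⟩ := hu
  have hpreW : ν ⁻¹ᵁ (X.basicOpen d) ≤ ν ⁻¹ᵁ U := fun y hy => hWU hy
  have hpreWV : ν ⁻¹ᵁ (X.basicOpen d) ≤ ν ⁻¹ᵁ V := hpreW.trans hpre
  -- naturality of `ν.app`
  have hnat : ∀ a : Γ(X, U), ((ν).app (X.basicOpen d)).hom ((X.presheaf.map (homOfLE hWU).op).hom a) =
      ((Curv2.normalization X).presheaf.map (homOfLE hpreW).op).hom (((ν).app U).hom a) := by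
    intro a
    exact congr($((ν).naturality (homOfLE hWU).op) a)
  have hz : ((Curv2.normalization X).presheaf.map (homOfLE hpreWV).op).hom z' =
      ((Curv2.normalization X).presheaf.map (homOfLE hpreW).op).hom b := by
    rw [hb]
    change _ = ((Curv2.normalization X).presheaf.map (homOfLE hpre).op ≫
      (Curv2.normalization X).presheaf.map (homOfLE hpreW).op).hom z'
    rw [← Functor.map_comp]
    rfl
  have key : ((ν).app (X.basicOpen d)).hom
      ((↑w⁻¹ : Γ(X, X.basicOpen d)) * (X.presheaf.map (homOfLE hWU).op).hom c) =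
      ((Curv2.normalization X).presheaf.map (homOfLE hpreWV).op).hom z' := by
    rw [hz, map_mul, hnat c, ← hcd, map_mul, ← hnat d, ← hw, ← mul_assoc, ← map_mul,
      Units.inv_mul, map_one, one_mul]
  subst hz'
  exact ⟨X.basicOpen d, hWU.trans hUV', hηW,
    (↑w⁻¹ : Γ(X, X.basicOpen d)) * (X.presheaf.map (homOfLE hWU).op).hom c, key⟩

end gen

variable (k : Type u) [Field k] (X : Scheme.{u}) [X.Over (Spec (CommRingCat.of k))]
  [IsIntegral X] [IsProper (X ↘ (Spec (CommRingCat.of k)))]

/-- **the normalization of an integral proper curve does not increase `h¹(O)`.** -/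
theorem surjective_H1_normalization (hdim : topologicalKrullDim X ≤ 1)
    [QuasiCompact (X.fromSpecStalk (genericPoint X))]
    [QuasiSeparated (X.fromSpecStalk (genericPoint X))] :
    IsFinite (Curv2.normalizationι X) ∧
    Function.Surjective (CL.HHmap k (ClSub.unitToPush (Curv2.normalizationι X)) 1) := by
  haveI := Curve.isLocallyNoetherian k X
  haveI := Curve.compactSpace k X
  haveI : IsNoetherian X := {}
  haveI hfin : IsFinite (Curv2.normalizationι X) :=
    Groth.Agent.H4.Cok.isFinite_of_nagata X (fun U =>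
      Groth.Agent.H6.NZ.isNagata_sections k (X ↘ Spec (CommRingCat.of k)) U.1 U.2)
  refine ⟨hfin, ?_⟩
  have hA : Coh.IsCoh (Coh.structureModule X) := PF.isCoh_unitMod X
  haveI : (Coh.structureModule (Curv2.normalization X)).IsQuasicoherent :=
    (inferInstance : (unitMod (Curv2.normalization X)).IsQuasicoherent)
  have hB : Coh.IsCoh ((Scheme.Modules.pushforward (Curv2.normalizationι X)).obj
      (Coh.structureModule (Curv2.normalization X))) :=
    ⟨qc_pushforward _ _, isFiniteType_pushforward_of_isFinite _ _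
      (PF.isCoh_unitMod (Curv2.normalization X)).2⟩
  apply Groth.Agent.H5.Curve3.surjective_H1_of_locSurjAt k X hdim hA hB
  intro x hx
  have hgen : x = genericPoint X := by
    by_contra hne
    exact hx (Curve.isClosed_singleton_of_ne_genericPoint hdim x hne)
  rw [hgen]
  exact locSurjAt_unitToPush_normalization X

include k in
/-- **S16298**: the normalization of a genus zero curve has genus zero. -/
theorem subsingleton_H1_normalization (hdim : topologicalKrullDim X ≤ 1)
    (h1 : Subsingleton (Coh.HH X (Coh.structureModule X) 1))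
    [QuasiCompact (X.fromSpecStalk (genericPoint X))]
    [QuasiSeparated (X.fromSpecStalk (genericPoint X))] :
    Subsingleton (Coh.HH (Curv2.normalization X)
      (Coh.structureModule (Curv2.normalization X)) 1) := by
  obtain ⟨hfin, hsurj⟩ := surjective_H1_normalization k X hdim
  letI : (Curv2.normalization X).Over (Spec (CommRingCat.of k)) :=
    ⟨Curv2.normalizationι X ≫ (X ↘ Spec (CommRingCat.of k))⟩
  haveI : (Curv2.normalizationι X).IsOver (Spec (CommRingCat.of k)) := ⟨rfl⟩
  haveI : (Coh.structureModule (Curv2.normalization X)).IsQuasicoherent :=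
    (inferInstance : (unitMod (Curv2.normalization X)).IsQuasicoherent)
  obtain ⟨e⟩ := Groth.Agent.H5.Curve3.nonempty_HH_push_linearEquiv k (Curv2.normalizationι X)
    (Coh.structureModule (Curv2.normalization X)) 1
  haveI : Subsingleton (Coh.HH X ((Scheme.Modules.pushforward (Curv2.normalizationι X)).obj
      (Coh.structureModule (Curv2.normalization X))) 1) := by
    refine ⟨fun a b => ?_⟩
    obtain ⟨a', rfl⟩ := hsurj a
    obtain ⟨b', rfl⟩ := hsurj b
    rw [Subsingleton.elim a' b']
  exact e.symm.toEquiv.subsingleton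

end Groth.Agent.H5.Curve7
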